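import Mathlib
import Cfsg.Prelude.Def_BlockRank
import Cfsg.Agent.Helper16.LocalRing

/-!
# Decomposition theory (Brauer characters): shared definitions (helper16)

Definitions for a development of Brauer characters over the residue field `AlgInt ⧸ M` of a
maximal ideal `M` of the algebraic integers: the local ring at `M` as a subring of `ℂ`, its residue
map, matrix representations and their irreducibility, the Teichmüller lift of residues to roots of
unity of order prime to `p`, the Brauer character of a matrix representation, and the set of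
irreducible Brauer characters.
-/

set_option autoImplicit false
set_option linter.unusedSectionVars false

namespace Cfsg.Agent.Helper16.DT

open Cfsg Cfsg.Agent.Helper16

universe u v w

/-! ### The local ring and its residue map -/

/-- The local ring at `M`, as a subring of `ℂ`. -/
def Rloc (M : Ideal AlgInt) [M.IsPrime] : Subring ℂ where
  carrier := {z | MemLocalRing M z}
  mul_mem' := fun ha hb => memLocalRing_mul ha hb
  one_mem' := memLocalRing_one
  add_mem' := fun ha hb => memLocalRing_add ha hb
  zero_mem' := memLocalRing_zero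
  neg_mem' := fun ha => memLocalRing_neg ha

theorem mem_Rloc {M : Ideal AlgInt} [M.IsPrime] {z : ℂ} : z ∈ Rloc M ↔ MemLocalRing M z := Iff.rfl

/-- The residue field of `M`, as a field (a scoped instance: `open Cfsg.Agent.Helper16.DT`). -/
noncomputable scoped instance instFieldRes (M : Ideal AlgInt) [M.IsMaximal] : Field (AlgInt ⧸ M) :=
  Ideal.Quotient.field M

variable {M : Ideal AlgInt}

theorem mk_ne_zero_of_not_mem {b : AlgInt} (hb : b ∉ M) : Ideal.Quotient.mk M b ≠ 0 := by
  intro h
  exact hb (Ideal.Quotient.eq_zero_iff_mem.mp h)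

/-- The residue of a complex number: `mk a * (mk b)⁻¹` for a chosen presentation `a / b` with
`b ∉ M` of a member of the local ring, and `0` outside the local ring. -/
noncomputable def resC (M : Ideal AlgInt) [M.IsMaximal] (z : ℂ) : AlgInt ⧸ M := by
  classical
  exact if h : MemLocalRing M z then
    Ideal.Quotient.mk M h.choose * (Ideal.Quotient.mk M h.choose_spec.choose)⁻¹ else 0

theorem resC_eq [M.IsMaximal] {z : ℂ} {a b : AlgInt} (hb : b ∉ M) (h : (a : ℂ) / (b : ℂ) = z) :
    resC M z = Ideal.Quotient.mk M a * (Ideal.Quotient.mk M b)⁻¹ := by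
  classical
  have hz : MemLocalRing M z := ⟨a, b, hb, h⟩
  unfold resC
  rw [dif_pos hz]
  obtain ⟨hb', h'⟩ := hz.choose_spec.choose_spec
  set a' := hz.choose
  set b' := hz.choose_spec.choose
  have hbne := coe_ne_zero_of_not_mem hb
  have hb'ne := coe_ne_zero_of_not_mem hb'
  have hcross : (a' : ℂ) * (b : ℂ) = (a : ℂ) * (b' : ℂ) := by
    have : (a' : ℂ) / (b' : ℂ) = (a : ℂ) / (b : ℂ) := by rw [h', h]
    rw [div_eq_div_iff hb'ne hbne] at this
    exact this
  have hcross' : a' * b = a * b' := by
    apply Subtype.ext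
    push_cast
    exact hcross
  have hmk : Ideal.Quotient.mk M a' * Ideal.Quotient.mk M b =
      Ideal.Quotient.mk M a * Ideal.Quotient.mk M b' := by
    rw [← map_mul, ← map_mul, hcross']
  have h1 := mk_ne_zero_of_not_mem hb
  have h2 := mk_ne_zero_of_not_mem hb'
  field_simp
  rw [mul_comm (Ideal.Quotient.mk M b')]
  exact hmk

theorem resC_algInt [M.IsMaximal] (a : AlgInt) : resC M (a : ℂ) = Ideal.Quotient.mk M a := by
  have h1 : (1 : AlgInt) ∉ M := one_not_mem
  rw [resC_eq (a := a) (b := 1) h1 (by simp)]
  simp

theorem resC_of_not_mem [M.IsMaximal] {z : ℂ} (hz : ¬ MemLocalRing M z) : resC M z = 0 := by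
  classical
  unfold resC
  rw [dif_neg hz]

theorem resC_add [hM : M.IsMaximal] {x y : ℂ} (hx : MemLocalRing M x) (hy : MemLocalRing M y) :
    resC M (x + y) = resC M x + resC M y := by
  obtain ⟨a, b, hb, rfl⟩ := hx
  obtain ⟨c, d, hd, rfl⟩ := hy
  have hbd : b * d ∉ M := fun h => (hM.isPrime.mem_or_mem h).elim hb hd
  have hbne := coe_ne_zero_of_not_mem hb
  have hdne := coe_ne_zero_of_not_mem hd
  have hsum : ((a * d + c * b : AlgInt) : ℂ) / ((b * d : AlgInt) : ℂ) =
      (a : ℂ) / (b : ℂ) + (c : ℂ) / (d : ℂ) := by
    push_cast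
    field_simp
  rw [resC_eq hbd hsum, resC_eq hb rfl, resC_eq hd rfl]
  have h1 := mk_ne_zero_of_not_mem hb
  have h2 := mk_ne_zero_of_not_mem hd
  simp only [map_add, map_mul]
  field_simp

theorem resC_mul [hM : M.IsMaximal] {x y : ℂ} (hx : MemLocalRing M x) (hy : MemLocalRing M y) :
    resC M (x * y) = resC M x * resC M y := by
  obtain ⟨a, b, hb, rfl⟩ := hx
  obtain ⟨c, d, hd, rfl⟩ := hy
  have hbd : b * d ∉ M := fun h => (hM.isPrime.mem_or_mem h).elim hb hd
  have hbne := coe_ne_zero_of_not_mem hb
  have hdne := coe_ne_zero_of_not_mem hd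
  have hprod : ((a * c : AlgInt) : ℂ) / ((b * d : AlgInt) : ℂ) =
      (a : ℂ) / (b : ℂ) * ((c : ℂ) / (d : ℂ)) := by
    push_cast
    field_simp
  rw [resC_eq hbd hprod, resC_eq hb rfl, resC_eq hd rfl]
  have h1 := mk_ne_zero_of_not_mem hb
  have h2 := mk_ne_zero_of_not_mem hd
  simp only [map_mul]
  field_simp

theorem resC_zero [M.IsMaximal] : resC M 0 = 0 := by
  have := resC_algInt (M := M) 0
  simpa using this

theorem resC_one [M.IsMaximal] : resC M 1 = 1 := by
  have := resC_algInt (M := M) 1
  simpa using this

/-- The residue map of the local ring, as a ring homomorphism onto the residue field. -/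
noncomputable def res (M : Ideal AlgInt) [M.IsMaximal] : Rloc M →+* AlgInt ⧸ M where
  toFun z := resC M (z : ℂ)
  map_one' := resC_one
  map_mul' x y := resC_mul x.2 y.2
  map_zero' := resC_zero
  map_add' x y := resC_add x.2 y.2

theorem res_apply [M.IsMaximal] (z : Rloc M) : res M z = resC M (z : ℂ) := rfl

/-- The residue of a member of the local ring vanishes exactly on the local ideal. -/
theorem resC_eq_zero_iff [hM : M.IsMaximal] {z : ℂ} (hz : MemLocalRing M z) :
    resC M z = 0 ↔ MemLocalIdeal M z := by
  constructor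
  · intro h0
    obtain ⟨a, b, hb, rfl⟩ := hz
    rw [resC_eq hb rfl] at h0
    have h1 := mk_ne_zero_of_not_mem hb
    have ha : Ideal.Quotient.mk M a = 0 := by
      rcases mul_eq_zero.mp h0 with h | h
      · exact h
      · exact absurd (inv_eq_zero.mp h) h1
    exact ⟨a, b, Ideal.Quotient.eq_zero_iff_mem.mp ha, hb, rfl⟩
  · rintro ⟨a, b, ha, hb, rfl⟩
    rw [resC_eq hb rfl, Ideal.Quotient.eq_zero_iff_mem.mpr ha, zero_mul]

theorem res_surjective [M.IsMaximal] : Function.Surjective (res M) := by
  intro y
  obtain ⟨a, rfl⟩ := Ideal.Quotient.mk_surjective y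
  exact ⟨⟨(a : ℂ), memLocalRing_algInt a⟩, resC_algInt a⟩

/-! ### Matrix representations -/

section MatRep

variable {G : Type u} [Group G] {K : Type v} [Field K] {ι : Type w} [Fintype ι] [DecidableEq ι]
  {κ : Type*} [Fintype κ] [DecidableEq κ]

/-- A matrix representation is irreducible: the coordinate space is nonzero and has no invariant
subspaces other than `⊥` and `⊤`. -/
def IsIrredMat (ρ : G →* Matrix ι ι K) : Prop :=
  Nonempty ι ∧ ∀ W : Submodule K (ι → K), (∀ g, ∀ w ∈ W, (ρ g).mulVec w ∈ W) → W = ⊥ ∨ W = ⊤

/-- Two matrix representations (possibly on different index types) are equivalent. -/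
def MatEquiv (ρ : G →* Matrix ι ι K) (σ : G →* Matrix κ κ K) : Prop :=
  ∃ (P : Matrix ι κ K) (Q : Matrix κ ι K), P * Q = 1 ∧ Q * P = 1 ∧ ∀ g, P * σ g * Q = ρ g

/-- `ρ` is an extension of `τ` by `σ`: in a suitable basis it is block upper triangular with
diagonal blocks `σ` and `τ`. -/
def IsExtMat {κ' : Type*} [Fintype κ'] [DecidableEq κ'] (ρ : G →* Matrix ι ι K)
    (σ : G →* Matrix κ κ K) (τ : G →* Matrix κ' κ' K) : Prop :=
  ∃ (P : Matrix ι (κ ⊕ κ') K) (Q : Matrix (κ ⊕ κ') ι K) (X : G → Matrix κ κ' K),
    P * Q = 1 ∧ Q * P = 1 ∧ ∀ g, Q * ρ g * P = Matrix.fromBlocks (σ g) (X g) 0 (τ g)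

/-- The action of an element `x = ∑ x(g) g` of the group algebra in a matrix representation. -/
def gaAct [Fintype G] (ρ : G →* Matrix ι ι K) (x : G → K) : Matrix ι ι K := ∑ g, x g • ρ g

end MatRep

/-! ### Teichmüller lifts and Brauer characters -/

/-- `z` is a complex root of unity of order prime to `p`. -/
def IsPPrimeRoot (p : ℕ) (z : ℂ) : Prop := ∃ m : ℕ, ¬ p ∣ m ∧ z ^ m = 1

/-- The Teichmüller lift of a residue `y`: a chosen complex root of unity of order prime to `p`
(given by an algebraic integer) with residue `y`, and `0` if there is none (which happens only for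
`y = 0`). -/
noncomputable def teich (p : ℕ) (M : Ideal AlgInt) (y : AlgInt ⧸ M) : ℂ := by
  classical
  exact if h : ∃ x : AlgInt, IsPPrimeRoot p (x : ℂ) ∧ Ideal.Quotient.mk M x = y then
    (h.choose : ℂ) else 0

section Brauer

variable {G : Type u} [Group G] {ι : Type w} [Fintype ι] [DecidableEq ι]

/-- The Brauer lift of a single matrix over the residue field: the sum of the Teichmüller lifts of
the roots of its characteristic polynomial, with multiplicity. -/
noncomputable def bfull (p : ℕ) (M : Ideal AlgInt) [M.IsMaximal] (A : Matrix ι ι (AlgInt ⧸ M)) : ℂ :=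
  ((A.charpoly.roots).map (teich p M)).sum

/-- The lifted trace function of a matrix representation over the residue field, on all of `G`. -/
noncomputable def brauerFull (p : ℕ) (M : Ideal AlgInt) [M.IsMaximal]
    (ρ : G →* Matrix ι ι (AlgInt ⧸ M)) : G → ℂ := fun g => bfull p M (ρ g)

/-- The Brauer character of a matrix representation over the residue field: the lifted trace on the
`p`-regular elements, extended by zero. -/
noncomputable def brauerChar (p : ℕ) (M : Ideal AlgInt) [M.IsMaximal]
    (ρ : G →* Matrix ι ι (AlgInt ⧸ M)) : G → ℂ := pRegularPart p (brauerFull p M ρ)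

/-- The irreducible Brauer characters of `G` (relative to `M`), as functions on `G` vanishing off
the `p`-regular elements. -/
def IBr (p : ℕ) (M : Ideal AlgInt) [M.IsMaximal] (G : Type u) [Group G] : Set (G → ℂ) :=
  {φ | ∃ (n : ℕ) (ρ : G →* Matrix (Fin n) (Fin n) (AlgInt ⧸ M)), IsIrredMat ρ ∧ φ = brauerChar p M ρ}

/-- The sum of a matrix representation over the conjugacy class of `x`. -/
noncomputable def classSumMat {K : Type v} [Field K] [Fintype G] (ρ : G →* Matrix ι ι K) (x : G) :
    Matrix ι ι K := by
  classical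
  exact ∑ y ∈ Finset.univ.filter (fun y : G => IsConj x y), ρ y

/-- The irreducible Brauer characters belonging to the set `B` of irreducible characters: those
afforded by an irreducible matrix representation on which every class sum acts as the residue of
the central character of every member of `B`. -/
def IBrIn (p : ℕ) (M : Ideal AlgInt) [M.IsMaximal] {G : Type u} [Group G] [Fintype G]
    (B : Set (IrrCharacter G)) : Set (G → ℂ) :=
  {φ | ∃ (n : ℕ) (ρ : G →* Matrix (Fin n) (Fin n) (AlgInt ⧸ M)), IsIrredMat ρ ∧
    φ = brauerChar p M ρ ∧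
    ∀ χ ∈ B, ∀ x : G, classSumMat ρ x = resC M (centralChar (χ : G → ℂ) x) • (1 : Matrix _ _ _)}

end Brauer

/-! ### Representations over the local ring -/

section Lattice

variable {G : Type u} [Group G] {ι : Type w} [Fintype ι] [DecidableEq ι]

/-- The complex matrix representation underlying a matrix representation over the local ring. -/
noncomputable def cplxRep [M.IsPrime] (A : G →* Matrix ι ι (Rloc M)) : G →* Matrix ι ι ℂ :=
  ((Rloc M).subtype.mapMatrix : Matrix ι ι (Rloc M) →+* Matrix ι ι ℂ).toMonoidHom.comp A

/-- The reduction modulo `M` of a matrix representation over the local ring. -/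
noncomputable def redRep [M.IsMaximal] (A : G →* Matrix ι ι (Rloc M)) :
    G →* Matrix ι ι (AlgInt ⧸ M) :=
  ((res M).mapMatrix : Matrix ι ι (Rloc M) →+* Matrix ι ι (AlgInt ⧸ M)).toMonoidHom.comp A

/-- The complex trace function of a matrix representation over the local ring. -/
noncomputable def cplxTrace [M.IsPrime] (A : G →* Matrix ι ι (Rloc M)) : G → ℂ :=
  fun g => (cplxRep A g).trace

end Lattice

end Cfsg.Agent.Helper16.DT
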